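import Cfsg.Agent.Lib.Comp.YK.Base

set_option maxRecDepth 100000
set_option Elab.async false

namespace Cfsg.Lib.Comp.YK

universe u

noncomputable def T0_R : List (List ℕ × ℕ) := [([1],2),
 ([3],2),
 ([5],1),
 ([6],1),
 ([7],1),
 ([1,3,2,4],0),
 ([1,5],1),
 ([1,6,2,6],0),
 ([1,7,2,7],0),
 ([3,5,4,5],0),
 ([3,6],1),
 ([3,7],2),
 ([5,6],1),
 ([6,7],2),
 ([3,6,7],4),
 ([5,7,5,6,7,6],0),
 ([8],1),
 ([8,1,8,4],0),
 ([8,5,8,6],0),
 ([7,8],3),
 ([1,2],0),
 ([3,4],0)]

noncomputable def T0_n_1 : Net :=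
 (Net.cons 64 (nat_lit 0x1950000000000000)
 (Net.cons 32 (nat_lit 0xdf5100000000000051804200)
 (Net.cons 16 (nat_lit 0x411400006f0400004080)
 (Net.cons 8 (nat_lit 0xa0060004400a4001a006600ca00e8)
 (Net.cons 4 (nat_lit 0x80004000800060204080c02080e0c08)
 (Net.cons 2 (nat_lit 0x20200000000002200000020000000)
 (Net.cons 1 (nat_lit 0x4010400100040104105140540150400)
 (Net.cons 2 (nat_lit 0x1100201310230130221031300120220)
 (Net.cons 4 (nat_lit 0x80006010d080c0f0e010a0c0c060800)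
 (Net.cons 8 (nat_lit 0x4a0060003400a100b4004700a200e8)
 (Net.cons 16 (nat_lit 0x586000004dab00000480)
 (Net.cons 32 (nat_lit 0xdf5100000000000035804400)
 (Net.cons 64 (nat_lit 0x1950000000000000)
 Net.nil)))))))))))))

noncomputable def T0_n_3 : Net :=
 (Net.cons 64 (nat_lit 0xfc88000000000000)
 (Net.cons 32 (nat_lit 0xfcbaf7d000000000a3f7fffc)
 (Net.cons 16 (nat_lit 0x95700000814a0000718000003950)
 (Net.cons 8 (nat_lit 0x7a00dc00740040002200a0006c00e6)
 (Net.cons 4 (nat_lit 0x800080600080808000c0a0c0000000a)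
 (Net.cons 2 (nat_lit 0x2022002000020000020000000200)
 (Net.cons 1 (nat_lit 0x41401014001014014104014111151114)
 (Net.cons 2 (nat_lit 0x300210012221023001001001133210)
 (Net.cons 4 (nat_lit 0xd00080a000e0c00030c0a0e0502090a)
 (Net.cons 8 (nat_lit 0xfa0064007800e500230081005000ea)
 (Net.cons 16 (nat_lit 0x55f00000844e0000712100003038)
 (Net.cons 32 (nat_lit 0xfcbadfd000000000a3f7fffc)
 (Net.cons 64 (nat_lit 0xfc88000000000000)
 Net.nil)))))))))))))

noncomputable def T0_n_5 : Net :=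
 (Net.cons 64 (nat_lit 0x6494000000000000)
 (Net.cons 32 (nat_lit 0x65f400000000000054018200)
 (Net.cons 16 (nat_lit 0x641400003d1000009840)
 (Net.cons 8 (nat_lit 0x10003000c000a0005c00c00012)
 (Net.cons 4 (nat_lit 0x2020204040c080e080c00080c0402)
 (Net.cons 2 (nat_lit 0x20020002000000000000000022002)
 (Net.cons 1 (nat_lit 0x41511004040505050404440014014)
 (Net.cons 2 (nat_lit 0x1120320122201330132030000322002)
 (Net.cons 4 (nat_lit 0x2020604040e080e080c0d080c0d0a)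
 (Net.cons 8 (nat_lit 0x10003000c000a0005c00c00012)
 (Net.cons 16 (nat_lit 0x649400003d3000009840)
 (Net.cons 32 (nat_lit 0x65f400000000000054018200)
 (Net.cons 64 (nat_lit 0x6494000000000000)
 Net.nil)))))))))))))

noncomputable def T0_n_6 : Net :=
 (Net.cons 64 (nat_lit 0x6492000000000000)
 (Net.cons 32 (nat_lit 0x64b2000000000000e4040000)
 (Net.cons 16 (nat_lit 0x23920000bcd000000000)
 (Net.cons 8 (nat_lit 0xa00b00030005000f000c00008)
 (Net.cons 4 (nat_lit 0x400000002060a0000080c080c04)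
 (Net.cons 2 (nat_lit 0x20002002020020220002200220000200)
 (Net.cons 1 (nat_lit 0x40104014440010415441400114044154)
 (Net.cons 2 (nat_lit 0x20002213020032103002231220001330)
 (Net.cons 4 (nat_lit 0x50f01060e010b01000a0c080304)
 (Net.cons 8 (nat_lit 0xa00b000cc006900f000c00008)
 (Net.cons 16 (nat_lit 0x23920000bcd000000000)
 (Net.cons 32 (nat_lit 0x64b2000000000000e4040000)
 (Net.cons 64 (nat_lit 0x6492000000000000)
 Net.nil)))))))))))))

noncomputable def T0_n_7 : Net :=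
 (Net.cons 64 (nat_lit 0x8360000000000000)
 (Net.cons 32 (nat_lit 0x8574040000000000a2208000)
 (Net.cons 16 (nat_lit 0x850800001aa800008600000038c0)
 (Net.cons 8 (nat_lit 0x8001800f0004000c000a000c80000)
 (Net.cons 4 (nat_lit 0x800000004080e0e0c02000e0e)
 (Net.cons 2 (nat_lit 0x20000200002020020020022000)
 (Net.cons 1 (nat_lit 0x5105010005100101440541510011054)
 (Net.cons 2 (nat_lit 0x3003022223200012023020322122330)
 (Net.cons 4 (nat_lit 0x400080a000a040a0e0c0e02000e0e)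
 (Net.cons 8 (nat_lit 0x8001d00f0004000c000d200cc0000)
 (Net.cons 16 (nat_lit 0x850800001be800008600000038c0)
 (Net.cons 32 (nat_lit 0x8574040000000000a2208000)
 (Net.cons 64 (nat_lit 0x8360000000000000)
 Net.nil)))))))))))))

noncomputable def T0_n_8 : Net :=
 (Net.cons 64 (nat_lit 0x836e000000000000)
 (Net.cons 32 (nat_lit 0x484c2e32000000001870a708)
 (Net.cons 16 (nat_lit 0xc618000061400000042400007410)
 (Net.cons 8 (nat_lit 0xc00044007400cc00f8006000080000)
 (Net.cons 4 (nat_lit 0xc00080200000c0408020802040800)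
 (Net.cons 2 (nat_lit 0x2000000020000220002000200)
 (Net.cons 1 (nat_lit 0x1040041010040010050110004000401)
 (Net.cons 2 (nat_lit 0x103302100000323020022010102220)
 (Net.cons 4 (nat_lit 0x40c00080207030c000c0d02060c090c)
 (Net.cons 8 (nat_lit 0xc8004400f600ce00bc004a00170028)
 (Net.cons 16 (nat_lit 0xc63a0000434e00007c3500009488)
 (Net.cons 32 (nat_lit 0x484c2e32000000005060c398)
 (Net.cons 64 (nat_lit 0x836e000000000000)
 Net.nil)))))))))))))

noncomputable def T0_n : List Net := [Net.nil,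
 T0_n_1,
 Net.rev T0_n_1,
 T0_n_3,
 Net.rev T0_n_3,
 T0_n_5,
 T0_n_6,
 T0_n_7,
 T0_n_8]

theorem T0_n_ok : NetsOK 128 T0_n := netsOK_of (by decide +kernel)

theorem T0_n_rel : Rels (gp T0_n) T0_R := rels_of_relsB (k := 7) T0_n_ok (by norm_num) (by decide +kernel)

theorem T0_fin : finB 128 T0_n [1,2,3,4,5,6,7,8] 112 (runH 128 T0_n (fun x p => ptInv (nth Net.nil T0_n x) p) iv T0_R [] ([1,2,3,4,5,6,7].map fun x => [x]) 0 []
  (apd [1,5,9,13,17,21,25,8,16,24,32,36,64,68,72,76,80,84,0,4,20,24,32,36,44,60,68,72,80,84,16,20,24,28,32,36,40,44,48,52,60,64,68,72,76,80,84,12,16,20,28,32,36,44,52,60,68,72,76,84]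
 (apd [4,20,24,28,36,40,44,48,52,60,68,72,80,84,0,4,12,20,24,28,32,36,44,52,60,64,68,72,76,80,84,4,20,24,28,32,36,40,44,60,68,72,76,80,84,4,32,36,40,52,60,68,72,80,84,0,20,32,44,52]
 [60,68,72,76,84,68,80]))
  (defsH 128 T0_n (ones 1152) [8,7,8,1,2,3,4,5,7,8,1,2,3,4,7,8,1,2,5,7,8,1,3,7,8,5,7,8] (Nat.shiftLeft 1 0) 0)) = true := by decide +kernel

theorem T0_idx : Idx.{u} iv (T0_R ++ []) ([1,2,3,4,5,6,7].map fun x => [x]) [1,2,3,4,5,6,7,8] 112 :=
  Reach.idx T0_n_ok (reach_runH T0_n_ok (fun x p _ => ptInv_gp T0_n_ok x p) T0_n_rel (reach_defsH T0_n_ok _ _ _ _ _ _) _ _) T0_fin (by norm_num)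

end Cfsg.Lib.Comp.YK
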