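import Cfsg.Agent.Lib.Comp.YK.Base

set_option maxRecDepth 100000
set_option Elab.async false

namespace Cfsg.Lib.Comp.YK

universe u

noncomputable def nets_1 : Net :=
 (Net.cons 1 (nat_lit 0x1)
 (Net.cons 1 (nat_lit 0x2)
 Net.nil))

noncomputable def nets_3 : Net :=
 (Net.cons 5 (nat_lit 0x18)
 (Net.cons 1 (nat_lit 0xa0)
 (Net.cons 1 (nat_lit 0x40)
 (Net.cons 1 (nat_lit 0xa0)
 (Net.cons 1 (nat_lit 0x100)
 (Net.cons 5 (nat_lit 0x18)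
 Net.nil))))))

noncomputable def nets_5 : Net :=
 (Net.cons 1 (nat_lit 0x1)
 (Net.cons 1 (nat_lit 0x40)
 Net.nil))

noncomputable def nets_6 : Net :=
 (Net.cons 1 (nat_lit 0x48)
 Net.nil)

noncomputable def nets_7 : Net :=
 (Net.cons 1 (nat_lit 0x20)
 (Net.cons 1 (nat_lit 0x8)
 Net.nil))

noncomputable def nets_8 : Net :=
 (Net.cons 5 (nat_lit 0xa)
 (Net.cons 1 (nat_lit 0x81)
 (Net.cons 1 (nat_lit 0x4a)
 (Net.cons 1 (nat_lit 0xa5)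
 (Net.cons 1 (nat_lit 0x142)
 (Net.cons 5 (nat_lit 0x15)
 Net.nil))))))

noncomputable def nets_64 : Net :=
 (Net.cons 1 (nat_lit 0x24)
 (Net.cons 1 (nat_lit 0x14a)
 (Net.cons 1 (nat_lit 0x24)
 (Net.cons 1 (nat_lit 0x8)
 Net.nil))))

noncomputable def nets_66 : Net :=
 (Net.cons 5 (nat_lit 0x8)
 (Net.cons 1 (nat_lit 0xa0)
 (Net.cons 1 (nat_lit 0x108)
 (Net.cons 1 (nat_lit 0x4)
 (Net.cons 5 (nat_lit 0x10)
 Net.nil)))))

noncomputable def nets_68 : Net :=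
 (Net.cons 5 (nat_lit 0x18)
 (Net.cons 1 (nat_lit 0x80)
 (Net.cons 1 (nat_lit 0x148)
 (Net.cons 1 (nat_lit 0x80)
 (Net.cons 1 (nat_lit 0x140)
 (Net.cons 5 (nat_lit 0x18)
 Net.nil))))))

noncomputable def nets_69 : Net :=
 (Net.cons 5 (nat_lit 0x10)
 (Net.cons 1 (nat_lit 0x140)
 (Net.cons 1 (nat_lit 0x80)
 (Net.cons 1 (nat_lit 0x140)
 (Net.cons 1 (nat_lit 0x20)
 (Net.cons 5 (nat_lit 0x10)
 Net.nil))))))

noncomputable def nets_71 : Net :=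
 (Net.cons 5 (nat_lit 0x18)
 (Net.cons 1 (nat_lit 0xa0)
 (Net.cons 1 (nat_lit 0x108)
 (Net.cons 1 (nat_lit 0x80)
 (Net.cons 5 (nat_lit 0x18)
 Net.nil)))))

noncomputable def nets_72 : Net :=
 (Net.cons 1 (nat_lit 0x140)
 (Net.cons 1 (nat_lit 0x20)
 Net.nil))

noncomputable def nets_74 : Net :=
 (Net.cons 1 (nat_lit 0x100)
 Net.nil)

noncomputable def nets : List Net := (apd [Net.nil,
 nets_1,
 Net.rev nets_1,
 nets_3,
 Net.rev nets_3,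
 nets_5,
 nets_6,
 nets_7,
 nets_8,
 Net.nil,
 Net.nil,
 Net.nil,
 Net.nil,
 Net.nil,
 Net.nil,
 Net.nil,
 Net.nil,
 Net.nil,
 Net.nil,
 Net.nil,
 Net.nil,
 Net.nil,
 Net.nil,
 Net.nil,
 Net.nil,
 Net.nil,
 Net.nil,
 Net.nil,
 Net.nil,
 Net.nil,
 Net.nil,
 Net.nil,
 Net.nil,
 Net.nil,
 Net.nil,
 Net.nil,
 Net.nil,
 Net.nil,
 Net.nil,
 Net.nil]
 [Net.nil,
 Net.nil,
 Net.nil,
 Net.nil,
 Net.nil,
 Net.nil,
 Net.nil,
 Net.nil,
 Net.nil,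
 Net.nil,
 Net.nil,
 Net.nil,
 Net.nil,
 Net.nil,
 Net.nil,
 Net.nil,
 Net.nil,
 Net.nil,
 Net.nil,
 Net.nil,
 Net.nil,
 Net.nil,
 Net.nil,
 Net.nil,
 nets_64,
 Net.rev nets_64,
 nets_66,
 Net.rev nets_66,
 nets_68,
 nets_69,
 Net.rev nets_69,
 nets_71,
 nets_72,
 Net.rev nets_72,
 nets_74])

theorem nets_ok : NetsOK 10 nets := netsOK_of (by decide +kernel)

theorem nets_rel : Rels (gp nets) R := rels_of_relsB (k := 4) nets_ok (by norm_num) (by decide +kernel)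

theorem nets_iv : IvOK (gp nets) iv := ivOK_of_ivB (k := 4) nets_ok (by norm_num) (by decide +kernel)

noncomputable def slp : List (ℕ × List ℕ) := [(64,[1,8,7,5,8,7,8,2]),
 (65,[1,8,7,8,5,7,8,2]),
 (66,[64,4,7,6,65,3,65]),
 (67,[64,4,64,6,7,3,65]),
 (68,[66,3,66,7,4,67]),
 (69,[7,3]),
 (70,[4,7]),
 (71,[3,68,4]),
 (72,[69,71,69]),
 (73,[70,71,70]),
 (74,[73,73,73])]

theorem slp_ok : slpB 10 4 nets slp L = true := by decide +kernel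

theorem mem_all {x : ℕ} (h : x ∈ L ++ slp.map (·.1)) : gp nets x ∈ cl (gp nets) L :=
  cl_eq_of_slpB nets_ok (by norm_num) slp_ok ▸ mem_cl h

theorem lb : 40320 ≤ Nat.card (cl (gp nets) L) := by
  rw [← cl_eq_of_slpB nets_ok (by norm_num) slp_ok]
  exact lb_of_chainB nets_ok (C := [([3,4,6,7,64,65,66,67,68,69,70,71,72,73,74],[1,8,66,8],0,0,8),
 ([3,4,6,7,66,67,68,69,70,71,72,73,74],[64,3,66,3,6],1,1,7),
 ([3,4,6,7,68,69,70,71,72,73,74],[66,3,7,6],2,2,6),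
 ([69,70,71,72,73,74],[3,68,3],3,3,5),
 ([72,73,74],[69,71],4,4,4),
 ([74],[72,72],5,5,3),
 ([],[74],8,8,2)]) (by decide +kernel)

end Cfsg.Lib.Comp.YK
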